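import Groth.Agent.H11Ample.ToPn
import Groth.Agent.H11Ample.Immersion
import Groth.Agent.H11Ample.Converse
import Groth.Agent.H11Proj.ProjSpace
import Groth.Agent.H27Weil.Geometry
import Mathlib.AlgebraicGeometry.Morphisms.Flat
import Mathlib.AlgebraicGeometry.ZariskisMainTheorem

/-!
# The Segre embedding
-/

set_option autoImplicit false
set_option linter.style.haveILetI false
set_option linter.unusedSectionVars false

universe u

open CategoryTheory CategoryTheory.Limits AlgebraicGeometry Opposite TopologicalSpace CohB1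
open Groth.Agent.H11Tilde Groth.Agent.H11Ample

namespace Groth.Agent.LeadChow.Segre

theorem closure_eq_top_of_isPushout {A B C D : CommRingCat.{u}} {f : A ⟶ B} {g : A ⟶ C} {inl : B ⟶ D}
    {inr : C ⟶ D} (h : IsPushout f g inl inr) :
    Subring.closure (Set.range inl ∪ Set.range inr) = ⊤ := by
  set S₀ := Subring.closure (Set.range inl ∪ Set.range inr)
  let a : B ⟶ CommRingCat.of S₀ := CommRingCat.ofHom
    (inl.hom.codRestrict S₀ fun x => Subring.subset_closure (Or.inl ⟨x, rfl⟩))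
  let b : C ⟶ CommRingCat.of S₀ := CommRingCat.ofHom
    (inr.hom.codRestrict S₀ fun x => Subring.subset_closure (Or.inr ⟨x, rfl⟩))
  have hw : f ≫ a = g ≫ b :=
    CommRingCat.hom_ext (RingHom.ext fun x => Subtype.ext congr($(h.w).hom x))
  have hid : h.desc a b hw ≫ CommRingCat.ofHom S₀.subtype = 𝟙 D := by
    apply h.hom_ext
    · rw [h.inl_desc_assoc, Category.comp_id]; rfl
    · rw [h.inr_desc_assoc, Category.comp_id]; rfl
  refine eq_top_iff.2 fun x _ => ?_
  have := congr($(hid).hom x)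
  rw [show x = (CommRingCat.ofHom S₀.subtype).hom ((h.desc a b hw).hom x) from this.symm]
  exact ((h.desc a b hw).hom x).2

variable (n : ℕ)

/-- The base ring. -/
abbrev Z0 : Type u := ULift.{u} ℤ

/-- The chart `T_i ≠ 0`. -/
noncomputable abbrev D (i : Fin (n + 1)) : (ProjSpace n Z0.{u}).Opens :=
  Proj.basicOpen (polyGrading n Z0.{u}) (MvPolynomial.X i)

theorem isAffineOpen_D (i : Fin (n + 1)) : IsAffineOpen (D.{u} n i) :=
  Proj.isAffineOpen_basicOpen (polyGrading n Z0.{u}) _ (X_mem i) one_pos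

theorem closure_ratio_eq_top (i : Fin (n + 1)) :
    Subring.closure (Set.range fun l => ratio (polyGrading n Z0.{u}) (X_mem i) (X_mem l)) = ⊤ := by
  set S₀ := Subring.closure (Set.range fun l => ratio (polyGrading n Z0.{u}) (X_mem i) (X_mem l))
  refine eq_top_iff.2 fun x _ => ?_
  have hbij : Function.Bijective (Proj.awayToSection (polyGrading n Z0.{u}) (MvPolynomial.X i)) := by
    haveI : IsIso (Proj.awayToSection (polyGrading n Z0.{u}) (MvPolynomial.X i)) :=
      (Proj.basicOpenIsoAway (polyGrading n Z0.{u}) (MvPolynomial.X i) (X_mem i) one_pos).isIso_hom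
    exact ConcreteCategory.bijective_of_isIso _
  obtain ⟨z, rfl⟩ := hbij.2 x
  obtain ⟨p, rfl⟩ := (Groth.Agent.H11Proj.ProjSpace.chartMap_bijective n Z0.{u} i).2 z
  induction p using MvPolynomial.induction_on with
  | C r =>
    have : ((Proj.awayToSection (polyGrading n Z0.{u}) (MvPolynomial.X i)).hom.comp
        ((Groth.Agent.H11Proj.ProjSpace.chartMap n Z0.{u} i).comp MvPolynomial.C)).comp
          (ULift.ringEquiv.symm : ℤ ≃+* Z0.{u}).toRingHom = Int.castRingHom _ := RingHom.ext_int _ _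
    have h := congr($this (ULift.ringEquiv r))
    simp only [RingHom.comp_apply, RingEquiv.toRingHom_eq_coe, RingHom.coe_coe,
      RingEquiv.symm_apply_apply] at h
    erw [h]
    exact intCast_mem S₀ _
  | add p q hp hq => rw [map_add, map_add]; exact add_mem (hp trivial) (hq trivial)
  | mul_X p j hp =>
    rw [map_mul, map_mul]
    refine mul_mem (hp trivial) (Subring.subset_closure ⟨j.1, ?_⟩)
    simp only [ratio, Groth.Agent.H11Proj.ProjSpace.chartMap, MvPolynomial.eval₂Hom_X']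
    congr 1
    apply HomogeneousLocalization.val_injective
    rw [HomogeneousLocalization.Away.val_mk, HomogeneousLocalization.val_mk]
    congr 1
    exact Subtype.ext (pow_one _)

theorem pull_coord_eq {X : Scheme.{u}} (p : X ⟶ ProjSpace n Z0.{u}) (i l : Fin (n + 1)) :
    ((Scheme.Modules.pullback p).obj (Twist.twistProjSpace n Z0.{u} 1)).presheaf.map
        (homOfLE (le_top : p ⁻¹ᵁ D n i ≤ ⊤)).op (pullTop p (ProjUP.coord n Z0.{u} l)) =
      p.app (D n i) (ratio (polyGrading n Z0.{u}) (X_mem i) (X_mem l)) •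
        ((Scheme.Modules.pullback p).obj (Twist.twistProjSpace n Z0.{u} 1)).presheaf.map
          (homOfLE (le_top : p ⁻¹ᵁ D n i ≤ ⊤)).op (pullTop p (ProjUP.coord n Z0.{u} i)) := by
  have e : ∀ k, ((Scheme.Modules.pullback p).obj (Twist.twistProjSpace n Z0.{u} 1)).presheaf.map
      (homOfLE (le_top : p ⁻¹ᵁ D n i ≤ ⊤)).op (pullTop p (ProjUP.coord n Z0.{u} k)) =
        OmegaSh.pullSect p (Twist.twistProjSpace n Z0.{u} 1) (D n i)
          ((Twist.twistProjSpace n Z0.{u} 1).presheaf.map (homOfLE (le_top : D n i ≤ ⊤)).op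
            (ProjUP.coord n Z0.{u} k)) :=
    fun k => (pullSect_res p (Twist.twistProjSpace n Z0.{u} 1) (le_top : D n i ≤ ⊤) (ProjUP.coord n Z0.{u} k)).symm
  rw [e, e]
  refine Eq.trans (congrArg (OmegaSh.pullSect p (Twist.twistProjSpace n Z0.{u} 1) (D n i))
    (globalSec_eq_ratio_smul (polyGrading n Z0.{u}) (X_mem i) (X_mem l))) ?_
  exact OmegaSh.pullSect_smul p (Twist.twistProjSpace n Z0.{u} 1) (D n i) _ _

/-- The product over the integers. -/
noncomputable abbrev PP (n m : ℕ) : Scheme.{u} :=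
  pullback (ProjSpace.toSpec n Z0.{u}) (ProjSpace.toSpec m Z0.{u})

/-- The first projection. -/
noncomputable abbrev pp (n m : ℕ) : PP.{u} n m ⟶ ProjSpace n Z0.{u} := pullback.fst _ _

/-- The second projection. -/
noncomputable abbrev qq (n m : ℕ) : PP.{u} n m ⟶ ProjSpace m Z0.{u} := pullback.snd _ _

/-- The chart of the product. -/
noncomputable abbrev GG (n m : ℕ) (i : Fin (n + 1)) (j : Fin (m + 1)) : (PP.{u} n m).Opens :=
  pp n m ⁻¹ᵁ D n i ⊓ qq n m ⁻¹ᵁ D m j

theorem isAffineOpen_GG (n m : ℕ) (i : Fin (n + 1)) (j : Fin (m + 1)) : IsAffineOpen (GG.{u} n m i j) := by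
  have : IsAffine _ := isAffineOpen_D.{u} n i
  have : IsAffine _ := isAffineOpen_D.{u} m j
  have : IsAffine (⊤ : (Spec (CommRingCat.of Z0.{u})).Opens).toScheme := isAffineOpen_top _
  exact .of_isIso (Scheme.Hom.isPullback_resLE (IsPullback.of_hasPullback (ProjSpace.toSpec n Z0.{u})
    (ProjSpace.toSpec m Z0.{u})) (US := ⊤) (UT := D m j) (UX := D n i) (UY := GG n m i j)
      le_top le_top rfl).isoPullback.hom

theorem closure_GG (n m : ℕ) (i : Fin (n + 1)) (j : Fin (m + 1)) (S₀ : Subring Γ(PP.{u} n m, GG n m i j))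
    (h₁ : ∀ l, (pp n m).appLE _ (GG n m i j) inf_le_left (ratio (polyGrading n Z0.{u}) (X_mem i) (X_mem l)) ∈ S₀)
    (h₂ : ∀ l, (qq n m).appLE _ (GG n m i j) inf_le_right (ratio (polyGrading m Z0.{u}) (X_mem j) (X_mem l)) ∈ S₀) :
    S₀ = ⊤ := by
  have H := IsPullback.of_hasPullback (ProjSpace.toSpec n Z0.{u}) (ProjSpace.toSpec m Z0.{u})
  have hpo := (isIso_pushoutSection_iff H (US := ⊤) (UT := D m j) (UX := D n i) (UY := GG n m i j)
    le_top le_top rfl).1 (isIso_pushoutSection_of_isAffineOpen H le_top le_top rfl (isAffineOpen_top _)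
      (isAffineOpen_D m _) (isAffineOpen_D n _))
  rw [eq_top_iff, ← closure_eq_top_of_isPushout hpo, Subring.closure_le]
  rintro c (⟨a, rfl⟩ | ⟨a, rfl⟩)
  · exact (Subring.closure_le (t := S₀.comap ((pp n m).appLE _ (GG n m i j) inf_le_left).hom)).2
      (by rintro _ ⟨l, rfl⟩; exact h₁ l) ((closure_ratio_eq_top n i).ge (Subring.mem_top a))
  · exact (Subring.closure_le (t := S₀.comap ((qq n m).appLE _ (GG n m i j) inf_le_right).hom)).2
      (by rintro _ ⟨l, rfl⟩; exact h₂ l) ((closure_ratio_eq_top m j).ge (Subring.mem_top a))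

theorem ratio_self {N : ℕ} (i : Fin (N + 1)) : ratio (polyGrading N Z0.{u}) (X_mem i) (X_mem i) = 1 :=
  fval_ext _ fun x => by
    rw [fval_ratio, fval_one]
    simp only [pow_one]
    exact Localization.mk_self ⟨_, _⟩

theorem appLE_ratio_self {N : ℕ} {Y : Scheme.{u}} (p : Y ⟶ ProjSpace N Z0.{u}) (i : Fin (N + 1)) (G : Y.Opens)
    (hG : G ≤ p ⁻¹ᵁ D N i) : p.appLE _ G hG (ratio (polyGrading N Z0.{u}) (X_mem i) (X_mem i)) = 1 :=
  (congrArg (p.appLE _ G hG) (show ratio (polyGrading N Z0.{u}) (X_mem i) (X_mem i) = (1 : Γ(ProjSpace N Z0.{u}, D N i))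
    from ratio_self i)).trans (map_one _)

/-- The module `O(1) ⊠ O(1)`. -/
noncomputable abbrev L1 (n m : ℕ) : (PP.{u} n m).Modules :=
  (Scheme.Modules.pullback (pp n m)).obj (Twist.twistProjSpace n Z0.{u} 1)

/-- The module `O(1) ⊠ O(1)`, second factor. -/
noncomputable abbrev L2 (n m : ℕ) : (PP.{u} n m).Modules :=
  (Scheme.Modules.pullback (qq n m)).obj (Twist.twistProjSpace m Z0.{u} 1)

/-- The sections `T_i ⊠ T_j`. -/
noncomputable def vv (n m : ℕ) (i : Fin (n + 1)) (j : Fin (m + 1)) :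
    Γ(CohB1.tensorMod (L1.{u} n m) (L2 n m), ⊤) :=
  tm (pullTop (pp n m) (ProjUP.coord n Z0.{u} i)) (pullTop (qq n m) (ProjUP.coord m Z0.{u} j))

theorem gen_vv (n m : ℕ) (i : Fin (n + 1)) (j : Fin (m + 1)) :
    gen (CohB1.tensorMod (L1.{u} n m) (L2 n m)) (vv n m i j) = GG n m i j := by
  have h1 := gen_smul_pullSect (pp.{u} n m) (isInvertible_twist (n := n) (R := Z0.{u}))
    (ProjUP.coord n Z0.{u} i) (isUnit_one (M := Γ(PP.{u} n m, ⊤)))
  have h2 := gen_smul_pullSect (qq.{u} n m) (isInvertible_twist (n := m) (R := Z0.{u}))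
    (ProjUP.coord m Z0.{u} j) (isUnit_one (M := Γ(PP.{u} n m, ⊤)))
  rw [one_smul] at h1 h2
  rw [vv, gen_tm (isInvertible_pullback _ isInvertible_twist) (isInvertible_pullback _ isInvertible_twist),
    h1, h2, gen_coord, gen_coord]

theorem vv_res (n m : ℕ) (i i' : Fin (n + 1)) (j j' : Fin (m + 1)) :
    (CohB1.tensorMod (L1.{u} n m) (L2 n m)).presheaf.map (homOfLE (le_top : GG n m i j ≤ ⊤)).op (vv n m i' j') =
      ((pp n m).appLE _ (GG n m i j) inf_le_left (ratio (polyGrading n Z0.{u}) (X_mem i) (X_mem i')) *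
        (qq n m).appLE _ (GG n m i j) inf_le_right (ratio (polyGrading m Z0.{u}) (X_mem j) (X_mem j'))) •
        (CohB1.tensorMod (L1.{u} n m) (L2 n m)).presheaf.map (homOfLE (le_top : GG n m i j ≤ ⊤)).op (vv n m i j) := by
  have hA := congrArg ((L1 n m).presheaf.map (homOfLE (inf_le_left : GG n m i j ≤ pp n m ⁻¹ᵁ D n i)).op)
    (pull_coord_eq n (pp n m) i i')
  have hB := congrArg ((L2 n m).presheaf.map (homOfLE (inf_le_right : GG n m i j ≤ qq n m ⁻¹ᵁ D m j)).op)
    (pull_coord_eq m (qq n m) j j')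
  rw [H10Coh.mres_mres, Scheme.Modules.map_smul, H10Coh.mres_mres] at hA hB
  rw [vv, vv, tm_res, tm_res, hA, hB, tm_smul_left, tm_smul_right, smul_smul]
  rfl

theorem exists_segreZ (n m : ℕ) :
    ∃ σ : PP.{u} n m ⟶ ProjSpace (n * m + n + m) Z0.{u}, IsClosedImmersion σ := by
  let E : Fin (n * m + n + m + 1) ≃ Fin (n + 1) × Fin (m + 1) :=
    (finCongr (by ring)).trans finProdFinEquiv.symm
  let L := CohB1.tensorMod (L1.{u} n m) (L2 n m)
  have hL : PicF.IsInvertible L :=
    isInvertible_tensor (isInvertible_pullback _ isInvertible_twist) (isInvertible_pullback _ isInvertible_twist)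
  let v : Fin (n * m + n + m + 1) → Γ(L, ⊤) := fun k => vv n m (E k).1 (E k).2
  obtain ⟨r, -, -, hpre, hratio⟩ := exists_toPn (R := Z0.{u}) (pp n m ≫ ProjSpace.toSpec n Z0.{u}) hL v fun x => by
    obtain ⟨i, hi⟩ := exists_mem_basicOpen_X (n := n) (R := Z0.{u}) (pp n m x)
    obtain ⟨j, hj⟩ := exists_mem_basicOpen_X (n := m) (R := Z0.{u}) (qq n m x)
    refine ⟨E.symm (i, j), ?_⟩
    show x ∈ gen L (vv n m (E (E.symm (i, j))).1 (E (E.symm (i, j))).2)
    rw [gen_vv, Equiv.apply_symm_apply]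
    exact ⟨hi, hj⟩
  have hr₀ : ∀ k, r ⁻¹ᵁ D _ k = GG n m (E k).1 (E k).2 := fun k => (hpre k).trans (gen_vv _ _ _ _)
  refine ⟨r, IsZariskiLocalAtTarget.of_iSup_eq_top (P := @IsClosedImmersion) (fun k => D _ k)
    (Groth.Agent.H11Proj.ProjSpace.iSup_basicOpen _ _) (fun k => ?_)⟩
  refine isClosedImmersion_morphismRestrict (isAffineOpen_D _ k) ((hr₀ k).symm ▸ isAffineOpen_GG _ _ _ _) ?_
  set i := (E k).1
  set j := (E k).2
  suffices h : Function.Surjective (r.appLE (D _ k) (GG n m i j) (hr₀ k).ge) by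
    intro b
    obtain ⟨a, ha⟩ := h ((PP n m).presheaf.map (homOfLE (hr₀ k).ge).op b)
    haveI : IsIso (homOfLE (hr₀ k).ge) := homOfLE_isIso_of_eq _ (hr₀ k).symm
    exact ⟨a, (ConcreteCategory.bijective_of_isIso ((PP n m).presheaf.map (homOfLE (hr₀ k).ge).op)).1 ha⟩
  have hprod : ∀ i' j', (pp n m).appLE _ (GG n m i j) inf_le_left (ratio (polyGrading n Z0.{u}) (X_mem i) (X_mem i')) *
      (qq n m).appLE _ (GG n m i j) inf_le_right (ratio (polyGrading m Z0.{u}) (X_mem j) (X_mem j')) ∈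
        (r.appLE (D _ k) (GG n m i j) (hr₀ k).ge).hom.range := by
    intro i' j'
    obtain ⟨ρ, hρ⟩ := hratio k (E.symm (i', j'))
    refine ⟨ρ, (((isGen_gen (v k)).res (gen_vv n m i j).ge).bijective le_rfl).1 ?_⟩
    beta_reduce
    rw [H10Coh.mres_mres, H10Coh.mres_mres]
    have h3 := congrArg (L.presheaf.map (homOfLE (hr₀ k).ge).op) hρ
    rw [H10Coh.mres_mres, Scheme.Modules.map_smul, H10Coh.mres_mres] at h3
    refine h3.symm.trans ?_
    simp only [v, Equiv.apply_symm_apply]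
    exact vv_res n m i i' j j'
  have htop : (r.appLE (D _ k) (GG n m i j) (hr₀ k).ge).hom.range = ⊤ :=
    closure_GG n m i j _ (fun l => by have h := hprod l j; rw [appLE_ratio_self, mul_one] at h; exact h)
      (fun l => by have h := hprod i l; rw [appLE_ratio_self, one_mul] at h; exact h)
  exact RingHom.range_eq_top.1 htop

theorem exists_segre (S : Scheme.{u}) (n m : ℕ) :
    ∃ φ : pullback (ProjSpaceOver.toBase n S) (ProjSpaceOver.toBase m S) ⟶ ProjSpaceOver (n * m + n + m) S,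
      IsClosedImmersion φ ∧ φ ≫ ProjSpaceOver.toBase (n * m + n + m) S =
        pullback.fst (ProjSpaceOver.toBase n S) (ProjSpaceOver.toBase m S) ≫ ProjSpaceOver.toBase n S := by
  obtain ⟨σ, hσ⟩ := exists_segreZ.{u} n m
  let bn := ProjSpaceOver.toBase n S
  let bm := ProjSpaceOver.toBase m S
  let fn : ProjSpaceOver n S ⟶ ProjSpace n Z0.{u} := pullback.fst _ _
  let fm : ProjSpaceOver m S ⟶ ProjSpace m Z0.{u} := pullback.fst _ _
  let a : pullback bn bm ⟶ pullback (ProjSpace.toSpec n Z0.{u}) (ProjSpace.toSpec m Z0.{u}) :=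
    pullback.lift (pullback.fst bn bm ≫ fn) (pullback.snd bn bm ≫ fm) (specULiftZIsTerminal.hom_ext _ _)
  let φ : pullback bn bm ⟶ ProjSpaceOver (n * m + n + m) S :=
    pullback.lift (a ≫ σ) (pullback.fst bn bm ≫ bn) (specULiftZIsTerminal.hom_ext _ _)
  have hφ : φ ≫ ProjSpaceOver.toBase (n * m + n + m) S = pullback.fst bn bm ≫ bn := pullback.lift_snd _ _ _
  refine ⟨φ, (IsClosedImmersion.iff_isProper_and_mono φ).2 ⟨?_, ⟨fun g h e => ?_⟩⟩, hφ⟩
  · haveI : IsProper bn := Groth.Agent.H27Weil.isProper_toBase _ _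
    haveI : IsProper bm := Groth.Agent.H27Weil.isProper_toBase _ _
    haveI : IsProper (ProjSpaceOver.toBase (n * m + n + m) S) := Groth.Agent.H27Weil.isProper_toBase _ _
    haveI : IsProper (φ ≫ ProjSpaceOver.toBase (n * m + n + m) S) := by rw [hφ]; infer_instance
    exact IsProper.of_comp φ (ProjSpaceOver.toBase (n * m + n + m) S)
  · have e1 : g ≫ a ≫ σ = h ≫ a ≫ σ := by
      have hfac : φ ≫ (pullback.fst (ProjSpace.toSpec (n * m + n + m) Z0.{u}) (specULiftZIsTerminal.from S) :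
          ProjSpaceOver (n * m + n + m) S ⟶ _) = a ≫ σ := pullback.lift_fst _ _ _
      rw [← hfac]
      exact (Category.assoc g φ _).symm.trans ((congrArg (· ≫ _) e).trans (Category.assoc h φ _))
    have e1' : g ≫ a = h ≫ a := by
      simp only [← Category.assoc] at e1
      exact (cancel_mono σ).1 e1
    have e2 : g ≫ pullback.fst bn bm ≫ bn = h ≫ pullback.fst bn bm ≫ bn := by
      rw [← hφ, reassoc_of% e]
    have ha₁ : a ≫ pullback.fst _ _ = pullback.fst bn bm ≫ fn := pullback.lift_fst _ _ _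
    have ha₂ : a ≫ pullback.snd _ _ = pullback.snd bn bm ≫ fm := pullback.lift_snd _ _ _
    apply pullback.hom_ext
    · apply pullback.hom_ext
      · show (g ≫ pullback.fst bn bm) ≫ fn = (h ≫ pullback.fst bn bm) ≫ fn
        rw [Category.assoc, Category.assoc, ← ha₁, reassoc_of% e1']
      · show (g ≫ pullback.fst bn bm) ≫ bn = (h ≫ pullback.fst bn bm) ≫ bn
        rw [Category.assoc, Category.assoc, e2]
    · apply pullback.hom_ext
      · show (g ≫ pullback.snd bn bm) ≫ fm = (h ≫ pullback.snd bn bm) ≫ fm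
        rw [Category.assoc, Category.assoc, ← ha₂, reassoc_of% e1']
      · show (g ≫ pullback.snd bn bm) ≫ bm = (h ≫ pullback.snd bn bm) ≫ bm
        rw [Category.assoc, Category.assoc, ← pullback.condition, e2]

end Groth.Agent.LeadChow.Segre
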