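import Groth.Agent.LeadChow.Opens
import Groth.Agent.LeadChow.SegreBase

/-!
# Chow's lemma with a dense open
-/

set_option autoImplicit false
set_option linter.style.haveILetI false
set_option linter.unusedSectionVars false

universe u

open CategoryTheory CategoryTheory.Limits AlgebraicGeometry TopologicalSpace

namespace Groth.Agent.LeadChow

variable {X S : Scheme.{u}}

theorem hasSegre (S : Scheme.{u}) : HasSegre S := fun n m => ⟨_, Segre.exists_segre S n m⟩

theorem isNoetherian_source (f : X ⟶ S) [IsNoetherian S] [LocallyOfFiniteType f] [QuasiCompact f] :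
    IsNoetherian X := by
  haveI : CompactSpace X := QuasiCompact.compactSpace_of_compactSpace f
  haveI : IsLocallyNoetherian X := LocallyOfFiniteType.isLocallyNoetherian f
  exact { }

theorem isReduced_opens (O : X.Opens) [IsReduced X] : IsReduced O.toScheme :=
  isReduced_of_isOpenImmersion O.ι

theorem irreducibleSpace_opens (O : X.Opens) [IrreducibleSpace X] (h : (O : Set X).Nonempty) :
    IrreducibleSpace O.toScheme :=
  Subtype.irreducibleSpace ⟨h, PreirreducibleSpace.isPreirreducible_univ.open_subset O.isOpen (Set.subset_univ _)⟩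

/-- Chow's lemma with a dense open. -/
theorem exists_chow_dense (f : X ⟶ S) [CompactSpace S] [QuasiSeparatedSpace S] [IsSeparated f]
    [LocallyOfFiniteType f] [QuasiCompact f] (hfin : (irreducibleComponents X).Finite) :
    ∃ (N : ℕ) (X' : Scheme.{u}) (π : X' ⟶ X) (j : X' ⟶ CohB1.ProjSpaceOver N S),
      IsImmersion j ∧ j ≫ CohB1.ProjSpaceOver.toBase N S = π ≫ f ∧ IsProper π ∧
      (∃ U : X.Opens, IsIso (π ∣_ U) ∧ Dense ((π ⁻¹ᵁ U : X'.Opens) : Set X')) ∧
      True ∧ Surjective π ∧ (∃ U : X.Opens, Dense (U : Set X) ∧ IsIso (π ∣_ U)) ∧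
      (IsReduced X → IsReduced X') ∧ (IrreducibleSpace X → IrreducibleSpace X') := by
  haveI : CompactSpace X := QuasiCompact.compactSpace_of_compactSpace f
  haveI : QuasiSeparatedSpace X := quasiSeparatedSpace_of_quasiSeparated f
  obtain ⟨C⟩ := nonempty_affCover f
  obtain ⟨O, D, hd, hc, hsplit, hdisj⟩ := exists_dense_split hfin C.U
  haveI := quasiCompact_opens_ι O hc
  obtain ⟨N, X', π, j, hj, hjS, hp, hiso, hd', hs, hr, hi⟩ := exists_chow f (hasSegre S) C O D hsplit hdisj
  refine ⟨N, X', π, j, hj, hjS, hp, ⟨O, hiso, hd'⟩, trivial, hs hd, ⟨O, hd, hiso⟩, fun h => ?_, fun h => ?_⟩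
  · haveI := h
    exact hr (isReduced_opens O)
  · haveI := h
    refine hi (irreducibleSpace_opens O ?_)
    obtain ⟨x⟩ := h.toNonempty
    exact hd.nonempty

end Groth.Agent.LeadChow
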