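import Groth.Agent.LeadChow.Dense
import Groth.Agent.H11Ample.HQProj
import Groth.Agent.H11Proj.HProj

/-!
# Projectivity of the maps in Chow's lemma
-/

set_option autoImplicit false
set_option linter.style.haveILetI false

universe u

open CategoryTheory CategoryTheory.Limits AlgebraicGeometry

namespace Groth.Agent.LeadChow

variable {X X' S : Scheme.{u}} {N : ℕ} (f : X ⟶ S) (π : X' ⟶ X) (j : X' ⟶ CohB1.ProjSpaceOver N S)
  [IsImmersion j] (hj : j ≫ CohB1.ProjSpaceOver.toBase N S = π ≫ f)

include hj

theorem isProjective_of_proper [IsProper π] : RelProj.IsProjective π := by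
  refine H11Proj.isProjective_of_isHProjective ?_
  let g : X' ⟶ CohB1.ProjSpaceOver N X :=
    pullback.lift (j ≫ pullback.fst _ _) π (specULiftZIsTerminal.hom_ext _ _)
  let m : CohB1.ProjSpaceOver N X ⟶ CohB1.ProjSpaceOver N S :=
    pullback.lift (pullback.fst _ _) (pullback.snd _ _ ≫ f) (specULiftZIsTerminal.hom_ext _ _)
  have hgm : g ≫ m = j := by
    apply pullback.hom_ext
    · refine (Category.assoc _ _ _).trans ?_
      refine (congrArg (g ≫ ·) (pullback.lift_fst _ _ _)).trans ?_
      exact pullback.lift_fst _ _ _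
    · refine (Category.assoc _ _ _).trans ?_
      refine (congrArg (g ≫ ·) (pullback.lift_snd _ _ _)).trans ?_
      refine (Category.assoc _ _ _).symm.trans ?_
      refine (congrArg (· ≫ f) (pullback.lift_snd _ _ _)).trans ?_
      exact hj.symm
  have hg : g ≫ CohB1.ProjSpaceOver.toBase N X = π := pullback.lift_snd _ _ _
  haveI : IsProper (CohB1.ProjSpaceOver.toBase N X) := H27Weil.isProper_toBase N X
  haveI : IsProper g := by
    haveI : IsProper (g ≫ CohB1.ProjSpaceOver.toBase N X) := by rw [hg]; infer_instance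
    exact IsProper.of_comp g (CohB1.ProjSpaceOver.toBase N X)
  haveI : IsImmersion (g ≫ m) := by rw [hgm]; infer_instance
  haveI : IsImmersion g := IsImmersion.of_comp g m
  refine ⟨N, g, IsClosedImmersion.of_isPreimmersion g ?_, hg⟩
  exact g.isClosedMap.isClosed_range

theorem isQuasiProjective_comp [QuasiCompact (π ≫ f)] : RelProj.IsQuasiProjective (π ≫ f) := by
  refine H11Ample.isQuasiProjective_of_isHQuasiProjective ⟨N, j, inferInstance, ?_, hj⟩
  haveI : IsProper (CohB1.ProjSpaceOver.toBase N S) := H27Weil.isProper_toBase N S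
  haveI : QuasiCompact (j ≫ CohB1.ProjSpaceOver.toBase N S) := by rw [hj]; infer_instance
  exact QuasiCompact.of_comp j (CohB1.ProjSpaceOver.toBase N S)

end Groth.Agent.LeadChow
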