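import Groth.Agent.H11Proj.ProjSpace
import Groth.Agent.H27Weil.Geometry
import Mathlib.AlgebraicGeometry.Morphisms.Immersion

/-!
# Maps into the standard charts of `P^n_S`
-/

set_option autoImplicit false
set_option linter.style.haveILetI false
set_option linter.unusedSectionVars false

universe u

open CategoryTheory CategoryTheory.Limits AlgebraicGeometry TopologicalSpace HomogeneousLocalization
open Groth.Agent.H11Proj

namespace Groth.Agent.LeadChow

/-- The base ring. -/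
abbrev Z0 : Type u := ULift.{u} ℤ

variable {n : ℕ}

/-- The ring map of the chart `T_i ≠ 0` with coordinates `c`. -/
noncomputable def ptHom (Y : Scheme.{u}) (i : Fin (n + 1)) (c : Fin (n + 1) → Γ(Y, ⊤)) :
    Away (CohB1.polyGrading n Z0.{u}) (MvPolynomial.X i) →+* Γ(Y, ⊤) :=
  (MvPolynomial.eval₂Hom ((Int.castRingHom Γ(Y, ⊤)).comp ULift.ringEquiv.toRingHom)
    (fun j : {j : Fin (n + 1) // j ≠ i} => c j.1)).comp (ProjSpace.chartInv n Z0.{u} i)

theorem ptHom_chartMap_X (Y : Scheme.{u}) (i : Fin (n + 1)) (c : Fin (n + 1) → Γ(Y, ⊤))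
    (j : {j : Fin (n + 1) // j ≠ i}) :
    ptHom Y i c (ProjSpace.chartMap n Z0.{u} i (MvPolynomial.X j)) = c j.1 := by
  have h : ProjSpace.chartInv n Z0.{u} i (ProjSpace.chartMap n Z0.{u} i (MvPolynomial.X j)) =
      MvPolynomial.X j := by
    have h1 := RingHom.congr_fun (ProjSpace.chartInv_awayProjHom n Z0.{u} i) (MvPolynomial.X j.1)
    rw [← ProjSpace.chartMap_comp_dehom] at h1
    simpa [ProjSpace.dehom, j.2] using h1
  simp [ptHom, h]

variable {S : Scheme.{u}}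

/-- The chart of `P^n_S` over an open `W` of `S`, as a product. -/
noncomputable abbrev chartDom (n : ℕ) (W : S.Opens) : Scheme.{u} :=
  pullback (specULiftZIsTerminal.from (Spec (CommRingCat.of (Away (CohB1.polyGrading n Z0.{u}) (MvPolynomial.X 0)))))
    (specULiftZIsTerminal.from W.toScheme)

/-- The chart `T_i ≠ 0` of `P^n` over the integers. -/
noncomputable def awayZ (n : ℕ) (i : Fin (n + 1)) :
    Spec (CommRingCat.of (Away (CohB1.polyGrading n Z0.{u}) (MvPolynomial.X i))) ⟶ CohB1.ProjSpace n Z0.{u} :=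
  Proj.awayι (CohB1.polyGrading n Z0.{u}) (MvPolynomial.X i) (ProjSpace.X_mem n _ i) one_pos

instance (n : ℕ) (i : Fin (n + 1)) : IsOpenImmersion (awayZ.{u} n i) :=
  inferInstanceAs (IsOpenImmersion
    (Proj.awayι (CohB1.polyGrading n Z0.{u}) (MvPolynomial.X i) (ProjSpace.X_mem n _ i) one_pos))

/-- The point with `T_i = 1` and coordinates `c`, in `P^n` over the integers. -/
noncomputable def ptZ (Y : Scheme.{u}) (i : Fin (n + 1)) (c : Fin (n + 1) → Γ(Y, ⊤)) :
    Y ⟶ CohB1.ProjSpace n Z0.{u} :=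
  Y.toSpecΓ ≫ Spec.map (CommRingCat.ofHom (ptHom Y i c)) ≫ awayZ n i

variable {S : Scheme.{u}}

/-- The point with `T_i = 1` and coordinates `c`, in `P^n_S`. -/
noncomputable def pt {Y : Scheme.{u}} (φ : Y ⟶ S) (i : Fin (n + 1)) (c : Fin (n + 1) → Γ(Y, ⊤)) :
    Y ⟶ CohB1.ProjSpaceOver n S :=
  pullback.lift (ptZ Y i c) φ (specULiftZIsTerminal.hom_ext _ _)

@[reassoc]
theorem pt_toBase {Y : Scheme.{u}} (φ : Y ⟶ S) (i : Fin (n + 1)) (c : Fin (n + 1) → Γ(Y, ⊤)) :
    pt φ i c ≫ CohB1.ProjSpaceOver.toBase n S = φ := pullback.lift_snd _ _ _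

/-- The open immersion of the chart. -/
noncomputable def chartι (n : ℕ) (W : S.Opens) : chartDom n W ⟶ CohB1.ProjSpaceOver n S :=
  pullback.map _ _ _ _ (awayZ n 0)
    W.ι (𝟙 _) (specULiftZIsTerminal.hom_ext _ _) (specULiftZIsTerminal.hom_ext _ _)

instance (n : ℕ) (W : S.Opens) : IsOpenImmersion (chartι n W) := by
  exact Scheme.pullback_map_isOpenImmersion _ _ _ _ (awayZ n 0) W.ι (𝟙 _)
    (specULiftZIsTerminal.hom_ext _ _) (specULiftZIsTerminal.hom_ext _ _)

/-- A morphism to the chart. -/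
noncomputable def toChart {Y : Scheme.{u}} {W : S.Opens} (φ : Y ⟶ W) (c : Fin (n + 1) → Γ(Y, ⊤)) :
    Y ⟶ chartDom n W :=
  pullback.lift (Y.toSpecΓ ≫ Spec.map (CommRingCat.ofHom (ptHom Y 0 c))) φ
    (specULiftZIsTerminal.hom_ext _ _)

@[reassoc]
theorem toChart_chartι {Y : Scheme.{u}} {W : S.Opens} (φ : Y ⟶ W) (c : Fin (n + 1) → Γ(Y, ⊤)) :
    toChart φ c ≫ chartι n W = pt (φ ≫ W.ι) 0 c := by
  apply pullback.hom_ext
  · erw [Category.assoc, pullback.lift_fst, pullback.lift_fst_assoc, pullback.lift_fst, Category.assoc]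
    rfl
  · erw [Category.assoc, pullback.lift_snd, pullback.lift_snd_assoc, pullback.lift_snd]

theorem isClosedImmersion_toChart {Y : Scheme.{u}} {W : S.Opens} [IsAffine Y] (hW : IsAffineOpen W)
    (φ : Y ⟶ W) (c : Fin (n + 1) → Γ(Y, ⊤))
    (hc : Subring.closure (Set.range φ.appTop ∪ c '' {0}ᶜ) = ⊤) : IsClosedImmersion (toChart φ c) := by
  haveI : IsAffine W.toScheme := hW
  refine IsClosedImmersion.of_surjective_of_isAffine _ (RingHom.range_eq_top.1 (eq_top_iff.2 ?_))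
  rw [← hc, Subring.closure_le]
  rintro a (⟨b, rfl⟩ | ⟨j, hj, rfl⟩)
  · refine ⟨(pullback.snd _ _ : chartDom n W ⟶ W).appTop b, ?_⟩
    rw [← ConcreteCategory.comp_apply, ← Scheme.Hom.comp_appTop, toChart, pullback.lift_snd]
  · let z := ProjSpace.chartMap n Z0.{u} 0 (MvPolynomial.X ⟨j, hj⟩)
    refine ⟨(pullback.fst _ _ : chartDom n W ⟶ _).appTop ((Scheme.ΓSpecIso _).inv z), ?_⟩
    rw [← ConcreteCategory.comp_apply (f := (Scheme.ΓSpecIso _).inv), ← ConcreteCategory.comp_apply,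
      Category.assoc, ← Scheme.Hom.comp_appTop, toChart, pullback.lift_fst, Scheme.Hom.comp_appTop,
      ← Scheme.ΓSpecIso_inv_naturality_assoc, Scheme.toSpecΓ_appTop, Iso.inv_hom_id, Category.comp_id]
    exact ptHom_chartMap_X Y 0 c ⟨j, hj⟩

theorem pt_one_notMem_range {Y : Scheme.{u}} (φ : Y ⟶ S) (W : S.Opens) (y : Y) :
    pt (n := n + 1) φ 1 0 y ∉ Set.range (chartι (n + 1) W) := by
  rintro ⟨z, hz⟩
  have h1 : ptZ (n := n + 1) Y 1 0 y ∈
      Proj.basicOpen (CohB1.polyGrading (n + 1) Z0.{u}) (MvPolynomial.X 0) := by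
    have h2 : ptZ (n := n + 1) Y 1 0 = pt φ 1 0 ≫ pullback.fst _ _ := (pullback.lift_fst _ _ _).symm
    have h5 : chartι (n + 1) W ≫ pullback.fst (CohB1.ProjSpace.toSpec (n + 1) Z0.{u}) (specULiftZIsTerminal.from S) =
        pullback.fst _ _ ≫ awayZ (n + 1) 0 := pullback.lift_fst _ _ _
    have h6 := (congr($h2 y)).trans ((congrArg (fun p =>
      (pullback.fst (CohB1.ProjSpace.toSpec (n + 1) Z0.{u}) (specULiftZIsTerminal.from S) : _ ⟶ _) p) hz.symm).trans congr($h5 z))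
    simp only at h6
    rw [h6]
    show awayZ (n + 1) 0 _ ∈ _
    rw [← Proj.opensRange_awayι (CohB1.polyGrading (n + 1) Z0.{u}) (MvPolynomial.X 0) (ProjSpace.X_mem _ _ 0) one_pos]
    exact ⟨_, rfl⟩
  set w := Spec.map (CommRingCat.ofHom (ptHom (n := n + 1) Y 1 0)) (Y.toSpecΓ y) with hw
  have h3 : w ∈  Proj.awayι (CohB1.polyGrading (n + 1) Z0.{u}) (MvPolynomial.X 1) (ProjSpace.X_mem _ _ 1) one_pos ⁻¹ᵁ
      Proj.basicOpen (CohB1.polyGrading (n + 1) Z0.{u}) (MvPolynomial.X 0) := h1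
  rw [Proj.awayι_preimage_basicOpen _ (ProjSpace.X_mem _ _ 1) one_pos (ProjSpace.X_mem _ _ 0) one_pos] at h3
  refine h3 ?_
  show ptHom (n := n + 1) Y 1 0 (Away.isLocalizationElem _ _) ∈ (Y.toSpecΓ y).asIdeal
  have h4 : ptHom (n := n + 1) Y 1 0 (Away.isLocalizationElem (ProjSpace.X_mem (n + 1) Z0.{u} 1)
      (ProjSpace.X_mem (n + 1) Z0.{u} 0)) = 0 := by
    simp only [ptHom, RingHom.comp_apply, Away.isLocalizationElem, ProjSpace.chartInv_mk]
    simp [ProjSpace.dehom]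
  rw [h4]
  exact Ideal.zero_mem _

end Groth.Agent.LeadChow
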