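import Groth.Agent.LeadChow.Chart

/-!
# Finite products of projective spaces over `S`, given the Segre embedding
-/

set_option autoImplicit false
set_option linter.style.haveILetI false
set_option linter.unusedSectionVars false

universe u

open CategoryTheory CategoryTheory.Limits AlgebraicGeometry TopologicalSpace
open Groth.Agent.H11Proj

namespace Groth.Agent.LeadChow

/-- The statement of the Segre embedding over `S`. -/
def HasSegre (S : Scheme.{u}) : Prop :=
  ∀ n m : ℕ, ∃ (N : ℕ)
    (φ : pullback (CohB1.ProjSpaceOver.toBase n S) (CohB1.ProjSpaceOver.toBase m S) ⟶ CohB1.ProjSpaceOver N S),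
    IsClosedImmersion φ ∧ φ ≫ CohB1.ProjSpaceOver.toBase N S =
      pullback.fst (CohB1.ProjSpaceOver.toBase n S) (CohB1.ProjSpaceOver.toBase m S) ≫
        CohB1.ProjSpaceOver.toBase n S

theorem isIso_toBase_zero (S : Scheme.{u}) : IsIso (CohB1.ProjSpaceOver.toBase 0 S) := by
  haveI := ProjSpace.isIso_toSpec_zero (ULift.{u} ℤ)
  exact inferInstanceAs (IsIso (pullback.snd (CohB1.ProjSpace.toSpec 0 (ULift.{u} ℤ)) _))

/-- A proper `S`-scheme with maps to the `P^{n k}_S`, through which every family of maps factors, and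
which is closed in a projective space. -/
theorem exists_prod {S : Scheme.{u}} (hseg : HasSegre S) : ∀ {m : ℕ} (n : Fin m → ℕ),
    ∃ (P : Scheme.{u}) (pP : P ⟶ S) (pr : ∀ k, P ⟶ CohB1.ProjSpaceOver (n k) S),
      IsProper pP ∧ (∀ k, pr k ≫ CohB1.ProjSpaceOver.toBase (n k) S = pP) ∧
      (∀ {Y : Scheme.{u}} (φ : Y ⟶ S) (a : ∀ k, Y ⟶ CohB1.ProjSpaceOver (n k) S),
        (∀ k, a k ≫ CohB1.ProjSpaceOver.toBase (n k) S = φ) →
        ∃ q : Y ⟶ P, q ≫ pP = φ ∧ ∀ k, q ≫ pr k = a k) ∧
      ∃ (N : ℕ) (i : P ⟶ CohB1.ProjSpaceOver N S),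
        IsClosedImmersion i ∧ i ≫ CohB1.ProjSpaceOver.toBase N S = pP := by
  intro m
  induction m with
  | zero =>
    intro n
    haveI := isIso_toBase_zero S
    refine ⟨S, 𝟙 S, fun k => k.elim0, inferInstance, fun k => k.elim0,
      fun φ _ _ => ⟨φ, Category.comp_id _, fun k => k.elim0⟩,
      0, inv (CohB1.ProjSpaceOver.toBase 0 S), inferInstance, IsIso.inv_hom_id _⟩
  | succ m ih =>
    intro n
    obtain ⟨P, pP, pr, hprop, hpr, hlift, N, i, hi, hiS⟩ := ih (fun k => n k.succ)
    haveI : IsProper (CohB1.ProjSpaceOver.toBase (n 0) S) := Groth.Agent.H27Weil.isProper_toBase _ _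
    let b := CohB1.ProjSpaceOver.toBase (n 0) S
    obtain ⟨M, φ, hφ, hφS⟩ := hseg (n 0) N
    let P' := pullback b pP
    let pP' : P' ⟶ S := pullback.fst b pP ≫ b
    let pr' : ∀ k, P' ⟶ CohB1.ProjSpaceOver (n k) S :=
      Fin.cases (motive := fun k => P' ⟶ CohB1.ProjSpaceOver (n k) S) (pullback.fst b pP)
        (fun k => pullback.snd b pP ≫ pr k)
    have h0 : pr' 0 = pullback.fst b pP := rfl
    have hs : ∀ k : Fin m, pr' k.succ = pullback.snd b pP ≫ pr k := fun k => rfl
    haveI : MorphismProperty.IsStableUnderComposition (@IsClosedImmersion : MorphismProperty Scheme.{u}) :=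
      ⟨fun f g hf hg => MorphismProperty.IsMultiplicative.toIsStableUnderComposition.comp_mem f g hf hg⟩
    haveI : IsClosedImmersion (pullback.map b pP b (CohB1.ProjSpaceOver.toBase N S) (𝟙 _) i (𝟙 _)
        (by simp) (by simp [hiS])) :=
      MorphismProperty.pullbackMap (P := (@IsClosedImmersion : MorphismProperty Scheme.{u})) inferInstance hi
        (Category.id_comp b).symm hiS.symm
    refine ⟨P', pP', pr', inferInstanceAs (IsProper (pullback.fst b pP ≫ b)), ?_, ?_, M,
      pullback.map b pP b (CohB1.ProjSpaceOver.toBase N S) (𝟙 _) i (𝟙 _) (by simp) (by simp [hiS]) ≫ φ,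
      inferInstance, ?_⟩
    · intro k
      induction k using Fin.cases with
      | zero => rw [h0]
      | succ k =>
        rw [hs, Category.assoc, hpr]
        exact pullback.condition.symm
    · intro Y ψ a ha
      obtain ⟨q, hq, hqk⟩ := hlift ψ (fun k => a k.succ) (fun k => ha k.succ)
      refine ⟨pullback.lift (a 0) q (by rw [hq]; exact ha 0), ?_, fun k => ?_⟩
      · simp only [pP', pullback.lift_fst_assoc]; exact ha 0
      · induction k using Fin.cases with
        | zero => rw [h0, pullback.lift_fst]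
        | succ k => rw [hs, pullback.lift_snd_assoc, hqk]
    · rw [Category.assoc, hφS]
      erw [pullback.lift_fst_assoc]
      rw [Category.comp_id]

end Groth.Agent.LeadChow
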