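import Groth.Agent.H17.SchDense
import Groth.Agent.H28Neron.Ext
import Mathlib.AlgebraicGeometry.Morphisms.Proper
import Mathlib.AlgebraicGeometry.Morphisms.Immersion

/-!
# The core construction of Chow's lemma

Given opens `U k` of `X` with closed immersions into opens of `S`-schemes `Pk k`, a family of maps from
`U₀` to the `Pk k` which on `U₀ ∩ U k` are the given immersions and send the rest outside of the opens,
the scheme-theoretic image of `U₀ ⟶ X ×_S P` is immersed into `P` by the second projection.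
-/

set_option autoImplicit false
set_option linter.style.haveILetI false
set_option linter.unusedSectionVars false
set_option linter.overlappingInstances false

universe u

open CategoryTheory CategoryTheory.Limits AlgebraicGeometry TopologicalSpace

namespace Groth.Agent.LeadChow

theorem isSchDominant_morphismRestrict {X Y : Scheme.{u}} (f : X ⟶ Y) [QuasiCompact f]
    [IsSchemeTheoreticallyDominant f] (U : Y.Opens) : IsSchemeTheoreticallyDominant (f ∣_ U) :=
  IsSchemeTheoreticallyDominant.of_isPullback (isPullback_morphismRestrict f U).flip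

theorem isImmersion_of_closedImmersion_restrict {X Y : Scheme.{u}} {ι : Type*} (f : X ⟶ Y)
    (O : ι → Y.Opens) (hcov : ∀ x, ∃ k, f x ∈ O k) (h : ∀ k, IsClosedImmersion (f ∣_ O k)) :
    IsImmersion f := by
  let V : Y.Opens := ⨆ k, O k
  have hV : Set.range f ⊆ Set.range V.ι := by
    rintro _ ⟨x, rfl⟩
    obtain ⟨k, hk⟩ := hcov x
    rw [Scheme.Opens.range_ι]
    exact Opens.mem_iSup.2 ⟨k, hk⟩
  let l : X ⟶ V := IsOpenImmersion.lift V.ι f hV
  have hl : l ≫ V.ι = f := IsOpenImmersion.lift_fac _ _ _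
  haveI : IsClosedImmersion l := by
    refine IsZariskiLocalAtTarget.of_iSup_eq_top (P := @IsClosedImmersion) (fun k => V.ι ⁻¹ᵁ O k) ?_
      fun k => ?_
    · refine eq_top_iff.2 fun x _ => ?_
      obtain ⟨k, hk⟩ := Opens.mem_iSup.1 x.2
      exact Opens.mem_iSup.2 ⟨k, hk⟩
    · have hsq : IsPullback (l ⁻¹ᵁ (V.ι ⁻¹ᵁ O k)).ι (l ∣_ (V.ι ⁻¹ᵁ O k)) l (V.ι ⁻¹ᵁ O k).ι :=
        (isPullback_morphismRestrict l _).flip
      have hc : IsClosedImmersion ((l ≫ V.ι) ∣_ O k) := by rw [hl]; exact h k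
      rw [morphismRestrict_comp] at hc
      haveI : IsClosedImmersion ((l ∣_ (V.ι ⁻¹ᵁ O k)) ≫ (V.ι ∣_ O k)) := hc
      exact IsClosedImmersion.of_comp (l ∣_ (V.ι ⁻¹ᵁ O k)) (V.ι ∣_ O k)
  rw [← hl]
  infer_instance

variable {X S : Scheme.{u}} (f : X ⟶ S) [IsSeparated f] {P : Scheme.{u}} (pP : P ⟶ S)
  {U₀ : Scheme.{u}} (v : U₀ ⟶ X) (q : U₀ ⟶ P) (hvq : v ≫ f = q ≫ pP)

/-- The modification: the scheme-theoretic image of `U₀ ⟶ X ×_S P`. -/
noncomputable def graphMap : U₀ ⟶ pullback f pP := pullback.lift v q hvq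

section

variable [IsSeparated pP] [QuasiCompact v]

instance quasiCompact_graphMap : QuasiCompact (graphMap f pP v q hvq) := by
  haveI : IsSeparated (pullback.fst f pP) := inferInstance
  have : QuasiCompact (graphMap f pP v q hvq ≫ pullback.fst f pP) := by
    rw [graphMap, pullback.lift_fst]; infer_instance
  exact QuasiCompact.of_comp _ (pullback.fst f pP)

/-- The projection to `X`. -/
noncomputable def modπ : (graphMap f pP v q hvq).image ⟶ X :=
  (graphMap f pP v q hvq).imageι ≫ pullback.fst f pP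

/-- The projection to `P`. -/
noncomputable def modg : (graphMap f pP v q hvq).image ⟶ P :=
  (graphMap f pP v q hvq).imageι ≫ pullback.snd f pP

theorem modπ_comp : modπ f pP v q hvq ≫ f = modg f pP v q hvq ≫ pP := by
  simp [modπ, modg, pullback.condition]

theorem toImage_modπ : (graphMap f pP v q hvq).toImage ≫ modπ f pP v q hvq = v := by
  rw [modπ, ← Category.assoc, Scheme.Hom.toImage_imageι, graphMap, pullback.lift_fst]

theorem toImage_modg : (graphMap f pP v q hvq).toImage ≫ modg f pP v q hvq = q := by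
  rw [modg, ← Category.assoc, Scheme.Hom.toImage_imageι, graphMap, pullback.lift_snd]

instance dominant_toImage : IsSchemeTheoreticallyDominant (graphMap f pP v q hvq).toImage :=
  ⟨Groth.Agent.H17.ker_toImage _⟩

theorem isProper_modπ [IsProper pP] : IsProper (modπ f pP v q hvq) := by
  unfold modπ; infer_instance

/-- Main statement: `modg` is an immersion. -/
theorem isImmersion_modg {ι : Type*} (U : ι → X.Opens) (hcov : ∀ x, ∃ k, x ∈ U k)
    (Pk : ι → Scheme.{u}) (pk : ∀ k, Pk k ⟶ S) [∀ k, IsSeparated (pk k)]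
    (pr : ∀ k, P ⟶ Pk k) (hpr : ∀ k, pr k ≫ pk k = pP)
    (Q : ι → Scheme.{u}) (e : ∀ k, Q k ⟶ Pk k) [∀ k, IsOpenImmersion (e k)]
    (j : ∀ k, (U k).toScheme ⟶ Q k) [∀ k, IsClosedImmersion (j k)]
    (hj : ∀ k, j k ≫ e k ≫ pk k = (U k).ι ≫ f)
    (hpre : ∀ k, (q ≫ pr k) ⁻¹ᵁ (e k).opensRange = v ⁻¹ᵁ U k)
    (hagree : ∀ k, (v ⁻¹ᵁ U k).ι ≫ q ≫ pr k = (v ∣_ U k) ≫ j k ≫ e k) :
    IsImmersion (modg f pP v q hvq) := by
  set t := (graphMap f pP v q hvq).toImage with ht
  set π := modπ f pP v q hvq with hπ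
  set g := modg f pP v q hvq with hg
  set i := (graphMap f pP v q hvq).imageι with hi
  have hπv : t ≫ π = v := toImage_modπ f pP v q hvq
  have hgq : t ≫ g = q := toImage_modg f pP v q hvq
  let O : ι → P.Opens := fun k => pr k ⁻¹ᵁ (e k).opensRange
  have eA : ∀ k, t ⁻¹ᵁ (π ⁻¹ᵁ U k) = v ⁻¹ᵁ U k := fun k => by
    rw [← Scheme.Hom.comp_preimage, hπv]
  have eB : ∀ k, t ⁻¹ᵁ (g ⁻¹ᵁ O k) = v ⁻¹ᵁ U k := fun k => by
    rw [← Scheme.Hom.comp_preimage, hgq, ← hpre, Scheme.Hom.comp_preimage]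
  have hAB : ∀ k, π ⁻¹ᵁ U k ≤ g ⁻¹ᵁ O k := fun k => by
    have := isSchDominant_morphismRestrict t (π ⁻¹ᵁ U k)
    have key : (π ⁻¹ᵁ U k).ι ≫ g ≫ pr k = (π ∣_ U k) ≫ j k ≫ e k := by
      refine Groth.Agent.H28Neron.ext_of_schDominant _ _ (pk k) ?_ (t ∣_ (π ⁻¹ᵁ U k)) ?_
      · simp only [Category.assoc, hpr, hj]
        rw [morphismRestrict_ι_assoc, hπ, hg, modπ_comp]
      · rw [morphismRestrict_ι_assoc, reassoc_of% hgq]
        have h1 : (v ⁻¹ᵁ U k).ι = (U₀.homOfLE (eA k).ge) ≫ (t ⁻¹ᵁ (π ⁻¹ᵁ U k)).ι := by simp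
        have h2 : U₀.homOfLE (eA k).ge ≫ (t ∣_ (π ⁻¹ᵁ U k)) ≫ (π ∣_ U k) = v ∣_ U k := by
          rw [← cancel_mono (U k).ι]
          simp only [Category.assoc, morphismRestrict_ι, morphismRestrict_ι_assoc]
          rw [reassoc_of% (Scheme.homOfLE_ι U₀ (eA k).ge), hπv]
        haveI : IsIso (U₀.homOfLE (eA k).ge) :=
          ⟨U₀.homOfLE (eA k).le, by simp, by simp⟩
        rw [← cancel_epi (U₀.homOfLE (eA k).ge), ← Category.assoc, ← h1, hagree, ← h2]
        simp only [Category.assoc]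
    intro x hx
    show pr k (g x) ∈ (e k).opensRange
    have := congr($key ⟨x, hx⟩)
    simp only at this
    exact ⟨_, this.symm⟩
  have hc : ∀ k, ∃ c : (g ⁻¹ᵁ O k).toScheme ⟶ (U k).toScheme,
      (g ⁻¹ᵁ O k).ι ≫ g ≫ pr k = c ≫ j k ≫ e k ∧ c ≫ (U k).ι = (g ⁻¹ᵁ O k).ι ≫ π := fun k => by
    have hr : Set.range ((g ⁻¹ᵁ O k).ι ≫ g ≫ pr k) ⊆ Set.range (e k) := by
      rintro _ ⟨x, rfl⟩; exact x.2
    let b := IsOpenImmersion.lift (e k) _ hr
    have hb : b ≫ e k = (g ⁻¹ᵁ O k).ι ≫ g ≫ pr k := IsOpenImmersion.lift_fac _ _ _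
    have := isSchDominant_morphismRestrict t (g ⁻¹ᵁ O k)
    let w := U₀.homOfLE (eB k).le
    have hw : w ≫ (v ⁻¹ᵁ U k).ι = (t ⁻¹ᵁ (g ⁻¹ᵁ O k)).ι := by simp [w]
    have hfac : (t ∣_ (g ⁻¹ᵁ O k)) ≫ b = (w ≫ (v ∣_ U k)) ≫ j k := by
      rw [← cancel_mono (e k)]
      simp only [Category.assoc, hb, morphismRestrict_ι_assoc, reassoc_of% hgq, ← hagree]
      rw [reassoc_of% hw]
    let z := pullback.lift (t ∣_ (g ⁻¹ᵁ O k)) (w ≫ (v ∣_ U k)) hfac
    have : IsSchemeTheoreticallyDominant (z ≫ pullback.fst b (j k)) := by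
      rw [pullback.lift_fst]; infer_instance
    have : IsIso (pullback.fst b (j k)) := IsClosedImmersion.isIso_iff_ker_eq_bot.2 (le_bot_iff.1
      ((Scheme.Hom.le_ker_comp z _).trans this.ker_eq_bot.le))
    let c := inv (pullback.fst b (j k)) ≫ pullback.snd b (j k)
    have hcj : c ≫ j k = b := by simp [c, ← pullback.condition]
    refine ⟨c, by rw [reassoc_of% hcj, hb], ?_⟩
    refine Groth.Agent.H28Neron.ext_of_schDominant _ _ f ?_ (t ∣_ (g ⁻¹ᵁ O k)) ?_
    · simp only [Category.assoc, ← hj, reassoc_of% hcj, reassoc_of% hb, hpr]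
      rw [hπ, hg, modπ_comp]
    · have hc' : (t ∣_ (g ⁻¹ᵁ O k)) ≫ c = w ≫ (v ∣_ U k) := by
        rw [← cancel_mono (j k), Category.assoc, hcj, hfac]
      rw [reassoc_of% hc', morphismRestrict_ι, reassoc_of% hw, morphismRestrict_ι_assoc, hπv]
  refine isImmersion_of_closedImmersion_restrict g O (fun x => ?_) fun k => ?_
  · obtain ⟨k, hk⟩ := hcov (π x)
    exact ⟨k, hAB k hk⟩
  · obtain ⟨c, hc₁, hc₂⟩ := hc k
    let a := IsOpenImmersion.lift (e k) ((O k).ι ≫ pr k) (by rintro _ ⟨x, rfl⟩; exact x.2)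
    have ha : a ≫ e k = (O k).ι ≫ pr k := IsOpenImmersion.lift_fac _ _ _
    have hl : (g ∣_ O k) ≫ a = c ≫ j k := by
      rw [← cancel_mono (e k), Category.assoc, ha, morphismRestrict_ι_assoc, hc₁, Category.assoc]
    let T := pullback a (j k)
    let l : (g ⁻¹ᵁ O k).toScheme ⟶ T := pullback.lift (g ∣_ O k) c hl
    let W : (pullback f pP).Opens := pullback.snd f pP ⁻¹ᵁ O k
    let m : T ⟶ W := IsOpenImmersion.lift W.ι
      (pullback.lift (pullback.snd a (j k) ≫ (U k).ι) (pullback.fst a (j k) ≫ (O k).ι) (by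
        have h := pullback.condition (f := a) (g := j k)
        rw [Category.assoc, Category.assoc, ← hj, ← reassoc_of% h, reassoc_of% ha, hpr]))
      (by
        rintro _ ⟨x, rfl⟩
        rw [Scheme.Opens.range_ι]
        show pullback.snd f pP _ ∈ O k
        rw [← Scheme.Hom.comp_apply, pullback.lift_snd]
        exact (pullback.fst a (j k) x).2)
    have hmι : m ≫ W.ι = pullback.lift (pullback.snd a (j k) ≫ (U k).ι) (pullback.fst a (j k) ≫ (O k).ι) _ :=
      IsOpenImmersion.lift_fac _ _ _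
    have hm : m ≫ (pullback.snd f pP ∣_ O k) = pullback.fst a (j k) := by
      rw [← cancel_mono (O k).ι, Category.assoc, morphismRestrict_ι, reassoc_of% hmι, pullback.lift_snd]
    have hlm : l ≫ m = i ∣_ W := by
      refine (cancel_mono W.ι).1 ?_
      refine Eq.trans ?_ (morphismRestrict_ι i W).symm
      rw [Category.assoc, hmι]
      apply pullback.hom_ext
      · rw [Category.assoc, pullback.lift_fst, pullback.lift_snd_assoc, hc₂]
        rfl
      · rw [Category.assoc, pullback.lift_snd, pullback.lift_fst_assoc, morphismRestrict_ι]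
        rfl
    have : IsSeparated m := by
      have : IsSeparated (m ≫ (pullback.snd f pP ∣_ O k)) := by rw [hm]; infer_instance
      exact IsSeparated.of_comp m (pullback.snd f pP ∣_ O k)
    have : IsClosedImmersion (l ≫ m) := by
      rw [hlm]
      exact IsZariskiLocalAtTarget.restrict (P := @IsClosedImmersion) (f := i) inferInstance W
    have : IsClosedImmersion l := IsClosedImmersion.of_comp l m
    have h : g ∣_ O k = l ≫ pullback.fst a (j k) := (pullback.lift_fst _ _ hl).symm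
    rw [h]
    infer_instance

/-- `modπ` is an isomorphism over an open over which `v` is an isomorphism. -/
theorem isIso_modπ_restrict (V : X.Opens) [IsIso (v ∣_ V)] : IsIso (modπ f pP v q hvq ∣_ V) := by
  set t := (graphMap f pP v q hvq).toImage with ht
  set π := modπ f pP v q hvq with hπ
  have hπv : t ≫ π = v := toImage_modπ f pP v q hvq
  have eA : t ⁻¹ᵁ (π ⁻¹ᵁ V) = v ⁻¹ᵁ V := by rw [← Scheme.Hom.comp_preimage, hπv]
  let a : (v ⁻¹ᵁ V).toScheme ⟶ (π ⁻¹ᵁ V).toScheme := U₀.homOfLE eA.ge ≫ (t ∣_ (π ⁻¹ᵁ V))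
  have ha : a ≫ (π ∣_ V) = v ∣_ V := by
    rw [← cancel_mono V.ι]
    simp only [a, Category.assoc, morphismRestrict_ι, morphismRestrict_ι_assoc, hπv]
    simp
  have := isSchDominant_morphismRestrict t (π ⁻¹ᵁ V)
  have : IsIso (U₀.homOfLE eA.ge) := ⟨U₀.homOfLE eA.le, by simp, by simp⟩
  have hadom : a.ker = ⊥ := (inferInstance : IsSchemeTheoreticallyDominant a).ker_eq_bot
  haveI : IsSeparated π := by unfold π modπ; infer_instance
  have : IsSeparated (π ∣_ V) := IsZariskiLocalAtTarget.restrict (P := @IsSeparated) (f := π) inferInstance V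
  have : IsClosedImmersion (a ≫ (π ∣_ V)) := by rw [ha]; infer_instance
  have : IsClosedImmersion a := IsClosedImmersion.of_comp a (π ∣_ V)
  have : IsIso a := IsClosedImmersion.isIso_iff_ker_eq_bot.2 hadom
  have : π ∣_ V = inv a ≫ (v ∣_ V) := by rw [← ha, IsIso.inv_hom_id_assoc]
  rw [this]
  infer_instance

/-- If `v` has dense range, `modπ` is surjective. -/
theorem surjective_modπ [IsProper pP] [IsDominant v] : Surjective (modπ f pP v q hvq) := by
  have := isProper_modπ f pP v q hvq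
  refine ⟨fun x => ?_⟩
  have h : IsClosed (Set.range (modπ f pP v q hvq)) := (modπ f pP v q hvq).isClosedMap.isClosed_range
  have hd : Dense (Set.range (modπ f pP v q hvq)) := v.denseRange.mono (by
    rintro _ ⟨y, rfl⟩
    exact ⟨(graphMap f pP v q hvq).toImage y, congr($(toImage_modπ f pP v q hvq) y)⟩)
  have hx : x ∈ closure (Set.range (modπ f pP v q hvq)) := hd x
  rwa [h.closure_eq] at hx

/-- The preimage of an open containing the range of `v` is dense. -/
theorem dense_modπ_preimage (V : X.Opens) (hV : Set.range v ⊆ V) :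
    Dense ((modπ f pP v q hvq ⁻¹ᵁ V : (graphMap f pP v q hvq).image.Opens) :
      Set (graphMap f pP v q hvq).image) :=
  (Scheme.Hom.denseRange (graphMap f pP v q hvq).toImage).mono (by
    rintro _ ⟨y, rfl⟩
    show modπ f pP v q hvq ((graphMap f pP v q hvq).toImage y) ∈ V
    rw [← Scheme.Hom.comp_apply, toImage_modπ]
    exact hV ⟨y, rfl⟩)

theorem isReduced_image [IsReduced U₀] : IsReduced (graphMap f pP v q hvq).image :=
  IsSchemeTheoreticallyDominant.isReduced (graphMap f pP v q hvq).toImage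

theorem irreducibleSpace_image [IrreducibleSpace U₀] :
    IrreducibleSpace (graphMap f pP v q hvq).image := by
  have h := (Scheme.Hom.denseRange (graphMap f pP v q hvq).toImage)
  have hi : IsIrreducible (Set.univ : Set (graphMap f pP v q hvq).image) := by
    rw [← h.closure_eq, ← Set.image_univ]
    exact (IrreducibleSpace.isIrreducible_univ U₀).image _ (Scheme.Hom.continuous _).continuousOn |>.closure
  exact (irreducibleSpace_def _).2 hi

end

end Groth.Agent.LeadChow
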