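import Groth.Agent.LeadChow.Core
import Groth.Agent.LeadChow.Prod

/-!
# Chow's lemma relative to an open which avoids a finite affine cover piecewise
-/

set_option autoImplicit false
set_option linter.style.haveILetI false
set_option linter.unusedSectionVars false

universe u

open CategoryTheory CategoryTheory.Limits AlgebraicGeometry TopologicalSpace
open Groth.Agent.H11Proj

namespace Groth.Agent.LeadChow

variable {X S : Scheme.{u}}

/-- An affine cover adapted to a morphism, indexed by `Fin m`. -/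
structure AffCover (f : X ⟶ S) where
  /-- number of members -/
  m : ℕ
  /-- members -/
  U : Fin m → X.Opens
  /-- targets -/
  W : Fin m → S.Opens
  isAffineU : ∀ k, IsAffineOpen (U k)
  isAffineW : ∀ k, IsAffineOpen (W k)
  le : ∀ k, U k ≤ f ⁻¹ᵁ W k
  cov : ∀ x : X, ∃ k, x ∈ U k

theorem nonempty_affCover (f : X ⟶ S) [CompactSpace X] : Nonempty (AffCover f) := by
  classical
  have h : ∀ x : X, ∃ (W : S.Opens) (U : X.Opens), IsAffineOpen W ∧ IsAffineOpen U ∧ x ∈ U ∧
      U ≤ f ⁻¹ᵁ W := by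
    intro x
    obtain ⟨W, hW, hxW, -⟩ :=
      exists_isAffineOpen_mem_and_subset (U := (⊤ : S.Opens)) (x := f x) trivial
    obtain ⟨U, hU, hxU, hle⟩ := exists_isAffineOpen_mem_and_subset (U := f ⁻¹ᵁ W) (x := x) hxW
    exact ⟨W, U, hW, hU, hxU, hle⟩
  choose W U hW hU hxU hle using h
  obtain ⟨t, ht⟩ := CompactSpace.isCompact_univ.elim_finite_subcover (fun x => (U x : Set X))
    (fun x => (U x).isOpen) fun x _ => Set.mem_iUnion.2 ⟨x, hxU x⟩
  exact ⟨⟨t.card, fun k => U (t.equivFin.symm k), fun k => W (t.equivFin.symm k), fun _ => hU _,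
    fun _ => hW _, fun _ => hle _, fun x => by
      obtain ⟨y, hy, hxy⟩ := Set.mem_iUnion₂.1 (ht (Set.mem_univ x))
      exact ⟨t.equivFin ⟨y, hy⟩, by simpa using hxy⟩⟩⟩

/-- Finitely many generators of an affine chart. -/
theorem exists_generators (f : X ⟶ S) [LocallyOfFiniteType f] {U : X.Opens} {W : S.Opens}
    (hU : IsAffineOpen U) (hW : IsAffineOpen W) (e : U ≤ f ⁻¹ᵁ W) :
    ∃ (n : ℕ) (c : Fin (n + 2) → Γ(U.toScheme, ⊤)),
      Subring.closure (Set.range (f.resLE W U e).appTop ∪ c '' {0}ᶜ) = ⊤ := by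
  classical
  haveI : IsAffine U.toScheme := hU
  haveI : IsAffine W.toScheme := hW
  haveI : LocallyOfFiniteType (U.ι ≫ f) := inferInstance
  haveI : LocallyOfFiniteType (f.resLE W U e ≫ W.ι) := by rw [Scheme.Hom.resLE_comp_ι]; infer_instance
  haveI : LocallyOfFiniteType (f.resLE W U e) := locallyOfFiniteType_of_comp _ W.ι
  have hft : (f.resLE W U e).appTop.hom.FiniteType :=
    HasRingHomProperty.appTop (P := @LocallyOfFiniteType) (f.resLE W U e) inferInstance
  obtain ⟨s, hs⟩ := @Algebra.FiniteType.out _ _ _ _ (f.resLE W U e).appTop.hom.toAlgebra hft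
  refine ⟨s.card, Fin.cons 0 (Fin.snoc (fun i => (s.equivFin.symm i).1) 0), ?_⟩
  letI := (f.resLE W U e).appTop.hom.toAlgebra
  have htop := congrArg Subalgebra.toSubring hs
  rw [Algebra.top_toSubring, Algebra.adjoin_eq_ring_closure] at htop
  rw [eq_top_iff, ← htop]
  refine Subring.closure_mono (Set.union_subset_union (by rfl) fun a ha => ?_)
  refine ⟨(Fin.castSucc (s.equivFin ⟨a, ha⟩)).succ, Fin.succ_ne_zero _, ?_⟩
  simp

theorem exists_glue {Y T : Scheme.{u}} (A B : Y.Opens) (hcov : ∀ y, y ∈ A ∨ y ∈ B)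
    (hdisj : ∀ y ∈ A, y ∉ B) (a : A.toScheme ⟶ T) (b : B.toScheme ⟶ T) :
    ∃ q : Y ⟶ T, A.ι ≫ q = a ∧ B.ι ≫ q = b := by
  let 𝒰 : Y.OpenCover := Y.openCoverOfIsOpenCover (fun s : Bool => bif s then A else B) <| by
    refine eq_top_iff.2 fun y _ => ?_
    rcases hcov y with h | h
    · exact Opens.mem_iSup.2 ⟨true, h⟩
    · exact Opens.mem_iSup.2 ⟨false, h⟩
  let g : ∀ s, 𝒰.X s ⟶ T := fun s => match s with
    | true => a
    | false => b
  refine ⟨Scheme.Cover.glueMorphisms 𝒰 g ?_,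
    Scheme.Cover.ι_glueMorphisms 𝒰 g _ true, Scheme.Cover.ι_glueMorphisms 𝒰 g _ false⟩
  have hE : IsEmpty (pullback A.ι B.ι : Scheme.{u}) := ⟨fun z =>
    hdisj _ (pullback.fst A.ι B.ι z).2 (by
      have h := congr($(pullback.condition (f := A.ι) (g := B.ι)) z)
      show A.ι (pullback.fst A.ι B.ι z) ∈ B
      rw [show A.ι (pullback.fst A.ι B.ι z) = B.ι (pullback.snd A.ι B.ι z) from h]
      exact (pullback.snd A.ι B.ι z).2)⟩
  have hE' : IsEmpty (pullback B.ι A.ι : Scheme.{u}) :=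
    ⟨fun z => hE.false ((pullbackSymmetry B.ι A.ι).hom z)⟩
  have hm : ∀ s, Mono (𝒰.f s) := fun s => inferInstanceAs (Mono (bif s then A else B).ι)
  rintro (_ | _) (_ | _)
  · have : pullback.fst (𝒰.f false) (𝒰.f false) = pullback.snd _ _ := by
      exact (hm false).right_cancellation _ _ pullback.condition
    rw [this]
  · exact (isInitialOfIsEmpty (X := pullback B.ι A.ι)).hom_ext _ _
  · exact (isInitialOfIsEmpty (X := pullback A.ι B.ι)).hom_ext _ _
  · have : pullback.fst (𝒰.f true) (𝒰.f true) = pullback.snd _ _ := by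
      exact (hm true).right_cancellation _ _ pullback.condition
    rw [this]

/-- Chow's lemma relative to a quasi-compact open `O` that is, for each member of the cover, the
disjoint union of its intersection with the member and another open. -/
theorem exists_chow (f : X ⟶ S) [IsSeparated f] [LocallyOfFiniteType f] (hseg : HasSegre S)
    (C : AffCover f) (O : X.Opens) [QuasiCompact O.ι] (D : Fin C.m → X.Opens)
    (hsplit : ∀ k, ∀ x ∈ O, x ∈ C.U k ∨ x ∈ D k) (hdisj : ∀ k, ∀ x ∈ C.U k, x ∉ D k) :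
    ∃ (N : ℕ) (X' : Scheme.{u}) (π : X' ⟶ X) (j : X' ⟶ CohB1.ProjSpaceOver N S),
      IsImmersion j ∧ j ≫ CohB1.ProjSpaceOver.toBase N S = π ≫ f ∧ IsProper π ∧ IsIso (π ∣_ O) ∧
      Dense ((π ⁻¹ᵁ O : X'.Opens) : Set X') ∧ (Dense (O : Set X) → Surjective π) ∧
      (IsReduced O.toScheme → IsReduced X') ∧ (IrreducibleSpace O.toScheme → IrreducibleSpace X') := by
  choose n c hc using fun k => exists_generators f (C.isAffineU k) (C.isAffineW k) (C.le k)
  obtain ⟨P, pP, pr, hP, hpr, hlift, N, i, hi, hiS⟩ := exists_prod hseg (fun k => n k + 1)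
  let φ := fun k => f.resLE (C.W k) (C.U k) (C.le k)
  let j := fun k => toChart (φ k) (c k)
  haveI : ∀ k, IsClosedImmersion (j k) := fun k => by
    haveI : IsAffine (C.U k).toScheme := C.isAffineU k
    exact isClosedImmersion_toChart (C.isAffineW k) (φ k) (c k) (hc k)
  have hj : ∀ k, j k ≫ chartι (n k + 1) (C.W k) ≫ CohB1.ProjSpaceOver.toBase (n k + 1) S =
      (C.U k).ι ≫ f := fun k => by
    rw [toChart_chartι_assoc, pt_toBase]
    exact Scheme.Hom.resLE_comp_ι _ _
  -- the component maps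
  have hq : ∀ k, ∃ q : O.toScheme ⟶ CohB1.ProjSpaceOver (n k + 1) S,
      q ≫ CohB1.ProjSpaceOver.toBase (n k + 1) S = O.ι ≫ f ∧
      q ⁻¹ᵁ (chartι (n k + 1) (C.W k)).opensRange = O.ι ⁻¹ᵁ C.U k ∧
      (O.ι ⁻¹ᵁ C.U k).ι ≫ q = (O.ι ∣_ C.U k) ≫ j k ≫ chartι (n k + 1) (C.W k) := fun k => by
    let A := O.ι ⁻¹ᵁ C.U k
    let B := O.ι ⁻¹ᵁ D k
    let a := (O.ι ∣_ C.U k) ≫ j k ≫ chartι (n k + 1) (C.W k)
    let b := pt (n := n k + 1) (B.ι ≫ O.ι ≫ f) 1 0
    obtain ⟨q, hqa, hqb⟩ := exists_glue A B (fun y => hsplit k _ y.2)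
      (fun y hy => hdisj k _ hy) a b
    refine ⟨q, ?_, ?_, hqa⟩
    · refine Scheme.hom_ext_of_forall _ _ fun y => ?_
      rcases hsplit k _ y.2 with h | h
      · refine ⟨A, h, ?_⟩
        rw [reassoc_of% hqa]
        simp only [a, Category.assoc, hj, morphismRestrict_ι_assoc]
        rfl
      · refine ⟨B, h, ?_⟩
        rw [reassoc_of% hqb]
        simp only [b, pt_toBase]
    · ext y
      constructor
      · intro hy
        rcases hsplit k _ y.2 with h | h
        · exact h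
        · exfalso
          refine pt_one_notMem_range (n := n k) (B.ι ≫ O.ι ≫ f) (C.W k) (⟨y, h⟩ : B.toScheme) ?_
          have := congr($hqb ⟨y, h⟩)
          rw [← this]
          exact hy
      · intro hy
        have := congr($hqa ⟨y, hy⟩)
        show q y ∈ Set.range _
        rw [show q y = a ⟨y, hy⟩ from this]
        exact ⟨_, rfl⟩
  choose qk hq₁ hq₂ hq₃ using hq
  obtain ⟨q, hq, hqk⟩ := hlift (O.ι ≫ f) qk hq₁
  haveI : ∀ k, IsSeparated (CohB1.ProjSpaceOver.toBase (n k + 1) S) := fun k =>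
    haveI := Groth.Agent.H27Weil.isProper_toBase (n k + 1) S
    inferInstance
  haveI := isImmersion_modg f pP O.ι q hq.symm C.U C.cov _ (fun k => CohB1.ProjSpaceOver.toBase (n k + 1) S)
    pr hpr _ (fun k => chartι (n k + 1) (C.W k)) j hj
    (fun k => by rw [hqk]; exact hq₂ k) (fun k => by rw [hqk]; exact hq₃ k)
  haveI : IsIso (O.ι ∣_ O) := by
    haveI : IsOpenImmersion (O.ι ∣_ O) := IsZariskiLocalAtTarget.restrict (P := @IsOpenImmersion) (f := O.ι) inferInstance O
    refine isIso_of_isOpenImmersion_of_opensRange_eq_top _ (eq_top_iff.2 fun x _ => ?_)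
    refine ⟨⟨⟨x.1, x.2⟩, x.2⟩, ?_⟩
    exact Subtype.ext congr($(morphismRestrict_ι O.ι O) ⟨⟨x.1, x.2⟩, x.2⟩)
  refine ⟨N, _, modπ f pP O.ι q hq.symm, modg f pP O.ι q hq.symm ≫ i, inferInstance, ?_,
    isProper_modπ f pP O.ι q hq.symm, isIso_modπ_restrict f pP O.ι q hq.symm O,
    dense_modπ_preimage f pP O.ι q hq.symm O (by simp), ?_,
    fun h => @isReduced_image _ _ f _ _ pP _ O.ι q hq.symm _ _ h,
    fun h => @irreducibleSpace_image _ _ f _ _ pP _ O.ι q hq.symm _ _ h⟩
  · rw [Category.assoc, hiS, modπ_comp]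
  · intro hd
    haveI : IsDominant O.ι := ⟨by
      rw [DenseRange, Scheme.Opens.range_ι]; exact hd⟩
    exact surjective_modπ f pP O.ι q hq.symm

end Groth.Agent.LeadChow
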