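import Groth.Agent.LeadChow.Main

/-!
# Opens adapted to a finite cover
-/

set_option autoImplicit false
set_option linter.style.haveILetI false
set_option linter.unusedSectionVars false

universe u

open CategoryTheory CategoryTheory.Limits AlgebraicGeometry TopologicalSpace

namespace Groth.Agent.LeadChow

theorem quasiCompact_opens_ι {X : Scheme.{u}} [QuasiSeparatedSpace X] (O : X.Opens)
    (hO : IsCompact (O : Set X)) : QuasiCompact O.ι := by
  refine ⟨fun U hU hUc => ?_⟩
  refine (Scheme.Hom.isOpenEmbedding O.ι).isInducing.isCompact_iff.2 ?_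
  rw [Set.image_preimage_eq_inter_range]
  erw [Scheme.Opens.range_ι]
  exact QuasiSeparatedSpace.inter_isCompact U O hU hUc O.isOpen hO

/-- A quasi-compact dense open which is, for each member of a finite open cover, the disjoint union
of its intersection with the member and another open. -/
theorem exists_dense_split {X : Scheme.{u}} (hfin : (irreducibleComponents X).Finite) {m : ℕ}
    (U : Fin m → X.Opens) :
    ∃ (O : X.Opens) (D : Fin m → X.Opens), Dense (O : Set X) ∧ IsCompact (O : Set X) ∧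
      (∀ k, ∀ x ∈ O, x ∈ U k ∨ x ∈ D k) ∧ (∀ k, ∀ x ∈ U k, x ∉ D k) := by
  classical
  haveI : Finite (irreducibleComponents X) := hfin.to_subtype
  have h : ∀ Z : irreducibleComponents X, ∃ (η : X) (V : X.Opens), IsGenericPoint η Z.1 ∧ IsAffineOpen V ∧
      η ∈ V ∧ (V : Set X) ⊆ Z.1 ∧ ∀ k, η ∈ U k → V ≤ U k := by
    rintro ⟨Z, hZ⟩
    have hη := hZ.1.isGenericPoint_genericPoint (isClosed_of_mem_irreducibleComponents Z hZ)
    set η := hZ.1.genericPoint
    have hR : IsOpen (⋃₀ (irreducibleComponents X \ {Z}))ᶜ := by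
      rw [Set.sUnion_eq_biUnion, isOpen_compl_iff]
      exact hfin.sdiff.isClosed_biUnion fun W hW ↦ isClosed_of_mem_irreducibleComponents W hW.1
    have hsub : (⋃₀ (irreducibleComponents X \ {Z}))ᶜ ⊆ Z :=
      subset_closure.trans_eq (closure_sUnion_irreducibleComponents_sdiff_singleton hfin Z hZ)
    have hne : (⋃₀ (irreducibleComponents X \ {Z}))ᶜ.Nonempty := by
      by_contra h
      rw [Set.not_nonempty_iff_eq_empty] at h
      have := closure_sUnion_irreducibleComponents_sdiff_singleton hfin Z hZ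
      rw [h, closure_empty] at this
      exact hZ.1.nonempty.ne_empty this.symm
    have hηR : η ∈ (⋃₀ (irreducibleComponents X \ {Z}))ᶜ :=
      hη.mem_open_set_iff hR |>.2 (by
        obtain ⟨z, hz⟩ := hne
        exact ⟨z, hsub hz, hz⟩)
    let G : X.Opens := ⟨(⋃₀ (irreducibleComponents X \ {Z}))ᶜ, hR⟩ ⊓
      ((Finset.univ.filter fun k => η ∈ U k).inf U)
    have hG : η ∈ G := by
      refine ⟨hηR, ?_⟩
      show η ∈ ((Finset.univ.filter fun k => η ∈ U k).inf U)
      refine Finset.inf_induction (p := fun V : X.Opens => η ∈ V) trivial (fun a ha b hb => ⟨ha, hb⟩) ?_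
      intro k hk
      exact (Finset.mem_filter.1 hk).2
    obtain ⟨V, hV, hηV, hle⟩ := exists_isAffineOpen_mem_and_subset (U := G) hG
    exact ⟨η, V, hη, hV, hηV, fun x hx => hsub (hle hx).1, fun k hk x hx =>
      (Finset.inf_le (f := U) (Finset.mem_filter.2 ⟨Finset.mem_univ k, hk⟩)) (hle hx).2⟩
  choose η V hη hV hηV hVZ hVU using h
  refine ⟨⨆ Z, V Z, fun k => ⨆ (Z) (_ : η Z ∉ U k), V Z, ?_, ?_, ?_, ?_⟩
  · intro x
    have hx : irreducibleComponent x ∈ irreducibleComponents X := irreducibleComponent_mem_irreducibleComponents x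
    refine closure_mono (s := {η ⟨_, hx⟩}) ?_ ?_
    · rintro _ rfl
      exact Opens.mem_iSup.2 ⟨_, hηV _⟩
    · rw [(hη ⟨_, hx⟩).def]
      exact mem_irreducibleComponent
  · rw [Opens.coe_iSup]
    exact isCompact_iUnion fun Z => (hV Z).isCompact
  · intro k x hx
    obtain ⟨Z, hZ⟩ := Opens.mem_iSup.1 hx
    by_cases h : η Z ∈ U k
    · exact Or.inl (hVU Z k h hZ)
    · exact Or.inr (Opens.mem_iSup.2 ⟨Z, Opens.mem_iSup.2 ⟨h, hZ⟩⟩)
  · intro k x hx hxD
    obtain ⟨Z, hZ⟩ := Opens.mem_iSup.1 hxD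
    obtain ⟨h, hZ⟩ := Opens.mem_iSup.1 hZ
    exact h ((hη Z).mem_open_set_iff (U k).isOpen |>.2 ⟨x, hVZ Z hZ, hx⟩)

/-- A nonempty affine open which is, for each member of a finite family of opens, inside it or disjoint from it. -/
theorem exists_nonempty_split {X : Scheme.{u}} [Nonempty X] {m : ℕ} (U : Fin m → X.Opens) :
    ∃ (O : X.Opens) (D : Fin m → X.Opens), (O : Set X).Nonempty ∧ IsAffineOpen O ∧
      (∀ k, ∀ x ∈ O, x ∈ U k ∨ x ∈ D k) ∧ (∀ k, ∀ x ∈ U k, x ∉ D k) := by
  classical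
  have h : ∀ t : Finset (Fin m), ∃ O : X.Opens, (O : Set X).Nonempty ∧ IsAffineOpen O ∧
      ∀ k ∈ t, O ≤ U k ∨ Disjoint (O : Set X) (U k) := by
    intro t
    induction t using Finset.induction with
    | empty =>
      obtain ⟨x⟩ := ‹Nonempty X›
      obtain ⟨V, hV, hxV, -⟩ :=
        exists_isAffineOpen_mem_and_subset (U := (⊤ : X.Opens)) (x := x) trivial
      exact ⟨V, ⟨x, hxV⟩, hV, by simp⟩
    | insert k t hk ih =>
      obtain ⟨O, hne, hO, hsplit⟩ := ih
      by_cases hd : Disjoint (O : Set X) (U k)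
      · exact ⟨O, hne, hO, fun l hl => (Finset.mem_insert.1 hl).elim (fun e => e ▸ Or.inr hd) (hsplit l)⟩
      · obtain ⟨x, hxO, hxU⟩ := Set.not_disjoint_iff.1 hd
        obtain ⟨V, hV, hxV, hle⟩ :=
          exists_isAffineOpen_mem_and_subset (U := O ⊓ U k) (x := x) ⟨hxO, hxU⟩
        refine ⟨V, ⟨x, hxV⟩, hV, fun l hl => (Finset.mem_insert.1 hl).elim
          (fun e => e ▸ Or.inl fun y hy => (hle hy).2) fun hl => ?_⟩
        exact (hsplit l hl).imp (fun h y hy => h (hle hy).1) (fun h => h.mono_left fun y hy => (hle hy).1)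
  obtain ⟨O, hne, hO, hs⟩ := h Finset.univ
  refine ⟨O, fun k => if O ≤ U k then ⊥ else O, hne, hO, fun k x hx => ?_, fun k x hx => ?_⟩
  · by_cases h : O ≤ U k
    · exact Or.inl (h hx)
    · exact Or.inr (by simp only [if_neg h]; exact hx)
  · by_cases h : O ≤ U k
    · simp only [if_pos h]; exact id
    · simp only [if_neg h]
      exact fun hxO => Set.disjoint_left.1 ((hs k (Finset.mem_univ k)).resolve_left h) hxO hx

end Groth.Agent.LeadChow
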